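import Mathlib.Algebra.MvPolynomial.PDeriv
import Mathlib.RingTheory.MvPolynomial.Homogeneous
import Mathlib.Algebra.MvPolynomial.Funext
import Mathlib.LinearAlgebra.Matrix.MvPolynomial
import Mathlib.LinearAlgebra.Matrix.GeneralLinearGroup.MvPolynomial
import Mathlib.Tactic

/-!
# The apolar pairing and the semi-invariant functional of the general linear group
-/

universe u

open MvPolynomial

noncomputable section

namespace Groth.Agent.GLRed28

section Pair

variable {σ : Type} [Fintype σ] [DecidableEq σ] {k : Type u} [Field k]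

/-- The product of the factorials of the exponents. -/
def fac (β : σ →₀ ℕ) : k := ((∏ i, (β i).factorial : ℕ) : k)

omit [DecidableEq σ] in
lemma fac_ne_zero [CharZero k] (β : σ →₀ ℕ) : (fac β : k) ≠ 0 :=
  Nat.cast_ne_zero.2 (Finset.prod_ne_zero_iff.2 fun i _ => Nat.factorial_ne_zero _)

lemma fac_eq {β : σ →₀ ℕ} {i : σ} (h : β i ≠ 0) :
    (fac β : k) = (β i : k) * fac (β - Finsupp.single i 1) := by
  rw [fac, fac, ← Nat.cast_mul]
  congr 1
  rw [← Finset.mul_prod_erase _ _ (Finset.mem_univ i), ← Finset.mul_prod_erase _ _ (Finset.mem_univ i),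
    ← mul_assoc]
  congr 1
  · rw [Finsupp.tsub_apply, Finsupp.single_eq_same, Nat.mul_factorial_pred h]
  · refine Finset.prod_congr rfl fun j hj => ?_
    rw [Finsupp.tsub_apply, Finsupp.single_eq_of_ne (Finset.ne_of_mem_erase hj), Nat.sub_zero]

/-- The apolar pairing. -/
def pair (a : MvPolynomial σ k) : MvPolynomial σ k →ₗ[k] k :=
  (MvPolynomial.basisMonomials σ k).constr k fun β => fac β * coeff β a

omit [DecidableEq σ] in
lemma pair_monomial (a : MvPolynomial σ k) (β : σ →₀ ℕ) (c : k) :
    pair a (monomial β c) = c * (fac β * coeff β a) := by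
  rw [show monomial β c = c • monomial β (1 : k) by rw [smul_monomial, smul_eq_mul, mul_one], map_smul]
  congr 1
  have := (MvPolynomial.basisMonomials σ k).constr_basis k (fun β => fac β * coeff β a) β
  simpa [pair] using this

omit [DecidableEq σ] in
lemma pair_apply (a b : MvPolynomial σ k) :
    pair a b = ∑ β ∈ b.support, coeff β b * (fac β * coeff β a) := by
  conv_lhs => rw [b.as_sum]
  simp only [map_sum, pair_monomial]

omit [DecidableEq σ] in
lemma pair_add (a a' b : MvPolynomial σ k) : pair (a + a') b = pair a b + pair a' b := by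
  simp only [pair_apply, coeff_add, mul_add, Finset.sum_add_distrib]

omit [DecidableEq σ] in
lemma pair_smul (c : k) (a b : MvPolynomial σ k) : pair (c • a) b = c * pair a b := by
  simp only [pair_apply, coeff_smul, smul_eq_mul, Finset.mul_sum]
  exact Finset.sum_congr rfl fun _ _ => by ring

omit [DecidableEq σ] in
lemma pair_sum {ι : Type*} (s : Finset ι) (a : ι → MvPolynomial σ k) (b : MvPolynomial σ k) :
    pair (∑ i ∈ s, a i) b = ∑ i ∈ s, pair (a i) b :=
  map_sum (AddMonoidHom.mk' (fun a => pair a b) fun x y => pair_add x y b) a s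

lemma pair_X_mul (i : σ) (a b : MvPolynomial σ k) : pair (X i * a) b = pair a (pderiv i b) := by
  induction b using MvPolynomial.induction_on' with
  | add p q hp hq => simp only [map_add, hp, hq]
  | monomial β c =>
    rw [pderiv_monomial, pair_monomial, pair_monomial, coeff_X_mul']
    by_cases h : β i = 0
    · simp [Finsupp.mem_support_iff, h]
    · rw [if_pos (Finsupp.mem_support_iff.2 h), fac_eq h]
      ring

omit [DecidableEq σ] in
lemma pair_inj [CharZero k] {a a' : MvPolynomial σ k} (h : ∀ b, pair a b = pair a' b) : a = a' := by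
  ext β
  have := h (monomial β 1)
  simp only [pair_monomial, one_mul] at this
  exact mul_left_cancel₀ (fac_ne_zero β) this

/-- Linear substitution of the variables. -/
def sub (M : σ → σ → k) : MvPolynomial σ k →ₐ[k] MvPolynomial σ k :=
  aeval fun j => ∑ i, C (M j i) * X i

omit [DecidableEq σ] in
lemma constantCoeff_sub (M : σ → σ → k) (b : MvPolynomial σ k) :
    constantCoeff (sub M b) = constantCoeff b := by
  induction b using MvPolynomial.induction_on with
  | C c => simp [sub]
  | add p q hp hq => simp only [map_add, hp, hq]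
  | mul_X p i hp => simp [sub, map_sum]

lemma pderiv_sub (M : σ → σ → k) (i : σ) (b : MvPolynomial σ k) :
    pderiv i (sub M b) = ∑ j, C (M j i) * sub M (pderiv j b) := by
  induction b using MvPolynomial.induction_on with
  | C c => simp [sub]
  | add p q hp hq => simp only [map_add, hp, hq, mul_add, Finset.sum_add_distrib]
  | mul_X p l hp =>
    have e : sub M (X l) = ∑ i, C (M l i) * X i := by simp [sub]
    have e2 : pderiv i (sub M (X l)) = C (M l i) := by
      rw [e, map_sum, Finset.sum_eq_single i]
      · rw [pderiv_C_mul, pderiv_X_self, mul_one]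
      · intro j _ hj; rw [pderiv_C_mul, pderiv_X_of_ne hj, mul_zero]
      · intro h; exact absurd (Finset.mem_univ i) h
    rw [map_mul, pderiv_mul, e2, hp]
    simp only [pderiv_mul, map_add, map_mul, mul_add, Finset.sum_add_distrib, Finset.sum_mul, mul_assoc]
    congr 1
    rw [Finset.sum_eq_single l]
    · rw [pderiv_X_self, map_one, mul_one, mul_comm]
    · intro j _ hj; rw [pderiv_X_of_ne (Ne.symm hj)]; simp
    · intro h; exact absurd (Finset.mem_univ l) h

lemma pair_sub (M : σ → σ → k) (a b : MvPolynomial σ k) :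
    pair a (sub M b) = pair (sub (fun j i => M i j) a) b := by
  induction a using MvPolynomial.induction_on generalizing b with
  | C c =>
    have h1 : ∀ b : MvPolynomial σ k, pair (C c) b = c * constantCoeff b := fun b => by
      induction b using MvPolynomial.induction_on' with
      | add p q hp hq => simp only [map_add, hp, hq, mul_add]
      | monomial β d =>
        rw [pair_monomial, coeff_C, constantCoeff_monomial]
        by_cases h : β = 0
        · subst h; simp [fac, mul_comm]
        · rw [if_neg (Ne.symm h), if_neg h]; simp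
    rw [h1, show sub (fun j i => M i j) (C c) = C c by simp [sub], h1, constantCoeff_sub]
  | add p q hp hq => simp only [map_add, pair_add, hp, hq]
  | mul_X p i hp =>
    rw [mul_comm p, pair_X_mul, pderiv_sub, map_sum]
    simp only [C_mul', map_smul, smul_eq_mul, hp]
    rw [map_mul, show sub (fun j i => M i j) (X i) = ∑ j, C (M j i) * X j by simp [sub], Finset.sum_mul, pair_sum]
    refine Finset.sum_congr rfl fun j _ => ?_
    rw [mul_assoc, C_mul', pair_smul, pair_X_mul]

lemma isHomogeneous_sub (M : σ → σ → k) {f : MvPolynomial σ k} {N : ℕ} (hf : f.IsHomogeneous N) :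
    (sub M f).IsHomogeneous N := by
  have := hf.aeval (R := k) (S := k) (fun j => ∑ i, C (M j i) * X i : σ → MvPolynomial σ k)
    (fun j => IsHomogeneous.sum _ _ _ fun i _ => isHomogeneous_C_mul_X _ i)
  simpa [sub] using this

end Pair

section Det

variable (n : ℕ) (k : Type u) [Field k]

/-- The determinant polynomial. -/
abbrev D : MvPolynomial (Fin n × Fin n) k := (Matrix.mvPolynomialX (Fin n) (Fin n) k).det

variable {n k}

lemma isHomogeneous_D : (D n k).IsHomogeneous n := by
  rw [D, Matrix.det_apply']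
  refine IsHomogeneous.sum _ _ _ fun τ _ => ?_
  have h : (∏ i, Matrix.mvPolynomialX (Fin n) (Fin n) k (τ i) i).IsHomogeneous n := by
    have := IsHomogeneous.prod Finset.univ (fun i : Fin n => (X (τ i, i) : MvPolynomial (Fin n × Fin n) k))
      (fun _ => 1) fun i _ => isHomogeneous_X _ _
    simpa using this
  have h2 := h.C_mul (((Equiv.Perm.sign τ : ℤ) : k))
  rwa [map_intCast] at h2

lemma isHomogeneous_D_pow (q : ℕ) : (D n k ^ q).IsHomogeneous (n * q) := isHomogeneous_D.pow q

lemma eval_D (g : Matrix (Fin n) (Fin n) k) : eval (fun p => g p.1 p.2) (D n k) = g.det := by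
  rw [D, Matrix.eval_det_mvPolynomialX]; rfl

/-- The coefficient matrix of right translation. -/
def rmat (g : Matrix (Fin n) (Fin n) k) : Fin n × Fin n → Fin n × Fin n → k :=
  fun p p' => if p.1 = p'.1 then g p'.2 p.2 else 0

/-- Right translation. -/
def rsub (g : Matrix (Fin n) (Fin n) k) : MvPolynomial (Fin n × Fin n) k →ₐ[k] MvPolynomial (Fin n × Fin n) k :=
  sub (rmat g)

lemma rsub_X (g : Matrix (Fin n) (Fin n) k) (i j : Fin n) :
    rsub g (X (i, j)) = ∑ l, C (g l j) * X (i, l) := by
  rw [rsub, sub, aeval_X, Fintype.sum_prod_type, Finset.sum_eq_single i]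
  · simp [rmat]
  · intro b _ hb; simp [rmat, Ne.symm hb]
  · intro h; exact absurd (Finset.mem_univ i) h

lemma rsub_D (g : Matrix (Fin n) (Fin n) k) : rsub g (D n k) = C g.det * D n k := by
  rw [D, AlgHom.map_det]
  have : (rsub g).mapMatrix (Matrix.mvPolynomialX (Fin n) (Fin n) k) =
      Matrix.mvPolynomialX (Fin n) (Fin n) k * g.map C := by
    ext i j : 1
    simp [rsub_X, Matrix.mul_apply, mul_comm]
  rw [this, Matrix.det_mul, mul_comm]
  congr 1
  exact ((C : k →+* MvPolynomial (Fin n × Fin n) k).map_det g).symm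

lemma eval_rsub (g s : Matrix (Fin n) (Fin n) k) (f : MvPolynomial (Fin n × Fin n) k) :
    eval (fun p => s p.1 p.2) (rsub g f) = eval (fun p => (s * g) p.1 p.2) f := by
  induction f using MvPolynomial.induction_on with
  | C c => simp [rsub, sub]
  | add p q hp hq => simp only [map_add, hp, hq]
  | mul_X p i hp =>
    obtain ⟨i, j⟩ := i
    simp only [map_mul, hp, rsub_X, map_sum, eval_C, eval_X, Matrix.mul_apply]
    congr 1
    exact Finset.sum_congr rfl fun l _ => mul_comm _ _

lemma pair_rsub (g : Matrix (Fin n) (Fin n) k) (a b : MvPolynomial (Fin n × Fin n) k) :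
    pair a (rsub g b) = pair (rsub g.transpose a) b := by
  have e : (fun j i => rmat g i j) = rmat g.transpose := by
    funext p p'
    simp only [rmat, Matrix.transpose_apply]
    exact if_congr eq_comm rfl rfl
  rw [rsub, rsub, pair_sub, e]

lemma pair_D_ne_zero [CharZero k] (q : ℕ) : pair (D n k ^ q) (D n k ^ q) ≠ 0 := by
  set z : MvPolynomial (Fin n × Fin n) ℤ := (Matrix.mvPolynomialX (Fin n) (Fin n) ℤ).det ^ q with hz
  have hz0 : z ≠ 0 := pow_ne_zero q (Matrix.det_mvPolynomialX_ne_zero _ ℤ)
  have hmap : map (Int.castRingHom k) z = D n k ^ q := by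
    rw [hz, map_pow, D, RingHom.map_det]
    congr 2
    ext i j : 1
    simp
  rw [← hmap, pair_apply, support_map_of_injective _ (by exact Int.cast_injective)]
  simp only [coeff_map, fac, eq_intCast]
  have e : ∀ β : Fin n × Fin n →₀ ℕ, ((coeff β z : ℤ) : k) * (((∏ i, (β i).factorial : ℕ) : k) * ((coeff β z : ℤ) : k)) =
      (((coeff β z) * (((∏ i, (β i).factorial : ℕ) : ℤ) * coeff β z) : ℤ) : k) := fun β => by push_cast; ring
  simp only [e]
  rw [← Int.cast_sum, Int.cast_ne_zero]
  refine (Finset.sum_pos (fun β hβ => ?_) (Finset.nonempty_iff_ne_empty.2 fun h => hz0 (support_eq_empty.1 h))).ne'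
  have h1 : coeff β z ≠ 0 := mem_support_iff.1 hβ
  have h2 : (0 : ℤ) < ((∏ i, (β i).factorial : ℕ) : ℤ) :=
    Int.natCast_pos.2 (Finset.prod_pos fun i _ => Nat.factorial_pos _)
  rw [mul_left_comm]
  exact mul_pos h2 (mul_self_pos.2 h1)

/-- The normalised functional. -/
def Ln (q : ℕ) : MvPolynomial (Fin n × Fin n) k →ₗ[k] k := (pair (D n k ^ q) (D n k ^ q))⁻¹ • pair (D n k ^ q)

lemma Ln_D_pow [CharZero k] (q : ℕ) : Ln q (D n k ^ q) = (1 : k) := by
  rw [Ln, LinearMap.smul_apply, smul_eq_mul, inv_mul_cancel₀ (pair_D_ne_zero q)]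

lemma pair_eq_zero {σ : Type} [Fintype σ] {a f : MvPolynomial σ k} {N N' : ℕ} (ha : a.IsHomogeneous N)
    (hf : f.IsHomogeneous N') (h : N ≠ N') : pair a f = 0 := by
  rw [pair_apply]
  refine Finset.sum_eq_zero fun β hβ => ?_
  have : β.degree = N' := by
    by_contra hne
    exact mem_support_iff.1 hβ (hf.coeff_eq_zero hne)
  rw [ha.coeff_eq_zero (this ▸ h.symm), mul_zero, mul_zero]

lemma Ln_eq_zero {q N : ℕ} {f : MvPolynomial (Fin n × Fin n) k} (hf : f.IsHomogeneous N) (h : n * q ≠ N) :
    Ln q f = 0 := by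
  rw [Ln, LinearMap.smul_apply, pair_eq_zero (isHomogeneous_D_pow q) hf h, smul_zero]

lemma Ln_rsub (q : ℕ) (g : Matrix (Fin n) (Fin n) k) (f : MvPolynomial (Fin n × Fin n) k) :
    Ln q (rsub g f) = g.det ^ q * Ln q f := by
  rw [Ln, LinearMap.smul_apply, LinearMap.smul_apply, pair_rsub, map_pow (rsub g.transpose), rsub_D, Matrix.det_transpose,
    mul_pow, ← map_pow, C_mul', pair_smul]
  simp only [smul_eq_mul]
  ring

/-- Semi-invariant functionals are multiples of `Ln`. -/
theorem eq_Ln [CharZero k] {q : ℕ} (L : MvPolynomial (Fin n × Fin n) k →ₗ[k] k)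
    (hdeg : ∀ β : Fin n × Fin n →₀ ℕ, β.degree ≠ n * q → L (monomial β 1) = 0)
    (hinv : ∀ g : Matrix (Fin n) (Fin n) k, g.det ≠ 0 → ∀ f, L (rsub g f) = g.det ^ q * L f)
    (f : MvPolynomial (Fin n × Fin n) k) : L f = L (D n k ^ q) * Ln q f := by
  classical
  haveI : Infinite k := Infinite.of_injective (fun m : ℕ => (m : k)) Nat.cast_injective
  let S := ((Finsupp.finite_of_degree_le (σ := Fin n × Fin n) (n * q)).toFinset).filter fun β => β.degree = n * q
  let a : MvPolynomial (Fin n × Fin n) k := ∑ β ∈ S, monomial β (L (monomial β 1) / fac β)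
  have hS : ∀ β, β ∈ S ↔ β.degree = n * q := fun β =>
    ⟨fun h => (Finset.mem_filter.1 h).2, fun h => Finset.mem_filter.2 ⟨by simpa using h.le, h⟩⟩
  have hcoeff : ∀ β, coeff β a = L (monomial β 1) / fac β := fun β => by
    simp only [a, coeff_sum, coeff_monomial, Finset.sum_ite_eq']
    split_ifs with h
    · rfl
    · rw [hdeg β fun e => h ((hS β).2 e), zero_div]
  have hL : L = pair a := by
    refine (MvPolynomial.basisMonomials _ k).ext fun β => ?_
    rw [MvPolynomial.coe_basisMonomials, pair_monomial, hcoeff, one_mul, mul_div_cancel₀ _ (fac_ne_zero β)]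
  set c := eval (fun p : Fin n × Fin n => (1 : Matrix (Fin n) (Fin n) k) p.1 p.2) a
  have ha : a = c • D n k ^ q := by
    refine MvPolynomial.eq_of_eval_eq_on_gl fun g => ?_
    set h : Matrix (Fin n) (Fin n) k := (g : Matrix (Fin n) (Fin n) k).transpose with hh
    have hdet : h.det ≠ 0 := by
      rw [hh, Matrix.det_transpose]
      exact (Matrix.isUnit_iff_isUnit_det _).1 g.isUnit |>.ne_zero
    have e : rsub h.transpose a = h.det ^ q • a := pair_inj fun b => by
      rw [← pair_rsub, pair_smul, ← hL, hinv h hdet]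
    have e2 := congrArg (eval (fun p : Fin n × Fin n => (1 : Matrix (Fin n) (Fin n) k) p.1 p.2)) e
    rw [eval_rsub, one_mul, smul_eval, hh, Matrix.transpose_transpose, Matrix.det_transpose] at e2
    rw [e2, smul_eval, map_pow, eval_D, mul_comm]
  have key : ∀ f, L f = c * pair (D n k ^ q) f := fun f => by rw [hL, ha, pair_smul]
  rw [key f, key (D n k ^ q), Ln, LinearMap.smul_apply, smul_eq_mul]
  field_simp [pair_D_ne_zero (n := n) (k := k) q]

lemma Ln_mul_D [CharZero k] (q : ℕ) (f : MvPolynomial (Fin n × Fin n) k) : Ln (q + 1) (f * D n k) = Ln q f := by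
  have h := eq_Ln (q := q) ((Ln (q + 1)).comp (LinearMap.mulRight k (D n k))) (fun β hβ => ?_) (fun g hg f => ?_) f
  · simpa [← pow_succ, Ln_D_pow] using h
  · refine Ln_eq_zero ((isHomogeneous_monomial 1 rfl).mul isHomogeneous_D) ?_
    rw [mul_add, mul_one]
    omega
  · have e := Ln_rsub (q + 1) g (f * D n k)
    rw [map_mul, rsub_D, mul_left_comm, C_mul', map_smul, smul_eq_mul, pow_succ, mul_comm (g.det ^ q),
      mul_assoc] at e
    exact mul_left_cancel₀ hg e

lemma Ln_mul_D_pow [CharZero k] (q m : ℕ) (f : MvPolynomial (Fin n × Fin n) k) :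
    Ln (q + m) (f * D n k ^ m) = Ln q f := by
  induction m with
  | zero => simp
  | succ m ih => rw [pow_succ, ← mul_assoc, ← add_assoc, Ln_mul_D, ih]

/-- The functional for the special linear group: degree by degree. -/
def Hs : MvPolynomial (Fin n × Fin n) k →ₗ[k] k :=
  (MvPolynomial.basisMonomials _ k).constr k fun β => Ln (β.degree / n) (monomial β 1)

lemma Hs_monomial (β : Fin n × Fin n →₀ ℕ) : Hs (monomial β (1 : k)) = Ln (β.degree / n) (monomial β 1) := by
  have := (MvPolynomial.basisMonomials (Fin n × Fin n) k).constr_basis k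
    (fun β => Ln (β.degree / n) (monomial β (1 : k))) β
  simpa [Hs] using this

lemma Hs_of_isHomogeneous {N : ℕ} {f : MvPolynomial (Fin n × Fin n) k} (hf : f.IsHomogeneous N) :
    Hs f = Ln (N / n) f := by
  rw [f.as_sum, map_sum, map_sum]
  refine Finset.sum_congr rfl fun β hβ => ?_
  have hd : β.degree = N := by
    by_contra hne
    exact mem_support_iff.1 hβ (hf.coeff_eq_zero hne)
  rw [show monomial β (coeff β f) = coeff β f • monomial β (1 : k) by rw [smul_monomial, smul_eq_mul, mul_one],
    map_smul, map_smul, Hs_monomial, hd]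

lemma Hs_mul_D [CharZero k] (hn : 0 < n) (f : MvPolynomial (Fin n × Fin n) k) : Hs (f * D n k) = Hs f := by
  suffices h : (Hs (n := n) (k := k)).comp (LinearMap.mulRight k (D n k)) = Hs by exact LinearMap.congr_fun h f
  refine (MvPolynomial.basisMonomials _ k).ext fun β => ?_
  rw [MvPolynomial.coe_basisMonomials, LinearMap.comp_apply, LinearMap.mulRight_apply, Hs_monomial,
    Hs_of_isHomogeneous ((isHomogeneous_monomial 1 rfl).mul isHomogeneous_D),
    Nat.add_div_right _ hn, Ln_mul_D]

end Det

end Groth.Agent.GLRed28
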