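import Groth.Prelude.Def_GLin5
import Groth.Agent.Lib.GLRed28.Apolar
import Groth.Agent.Lib.CoalgH23.Integral

/-!
# Invariant integrals on the general and the special linear group in characteristic zero
-/

universe u v

open TensorProduct HopfRep

noncomputable section

namespace Groth.Agent.GLRed28

open CoordGrp

variable {n : ℕ} {k : Type u} [Field k]

/-- The underlying polynomial. -/
abbrev poly (p : Mat n k) : MvPolynomial (Fin n × Fin n) k := Mat.toPoly n k p

/-- A functional read on the matrix monoid. -/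
def onMat (l : MvPolynomial (Fin n × Fin n) k →ₗ[k] k) : Mat n k →ₗ[k] k :=
  l.comp (Mat.toPoly n k).toLinearMap

lemma onMat_apply (l : MvPolynomial (Fin n × Fin n) k →ₗ[k] k) (p : Mat n k) : onMat l p = l (poly p) := rfl

lemma poly_det : poly (Mat.det n k) = D n k := rfl

lemma aeval_eq_eval (g : Matrix (Fin n) (Fin n) k) (p : Mat n k) :
    Mat.aeval n k g p = MvPolynomial.eval (fun ij : Fin n × Fin n => g ij.1 ij.2) (poly p) := by
  show MvPolynomial.aeval (fun ij : Fin n × Fin n => g ij.1 ij.2) (poly p) = _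
  rw [MvPolynomial.aeval_eq_eval]

/-- Slicing the comultiplication. -/
def sl (l : Mat n k →ₗ[k] k) : Mat n k →ₗ[k] Mat n k :=
  (TensorProduct.lid k (Mat n k)).toLinearMap ∘ₗ l.rTensor (Mat n k) ∘ₗ CoalgebraStruct.comul (R := k)

/-- Right translation, through the comultiplication. -/
def trR (g : Matrix (Fin n) (Fin n) k) : Mat n k →ₐ[k] Mat n k :=
  (Algebra.TensorProduct.rid k k (Mat n k)).toAlgHom.comp
    ((Algebra.TensorProduct.map (AlgHom.id k (Mat n k)) (Mat.aeval n k g)).comp (Bialgebra.comulAlgHom k (Mat n k)))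

lemma poly_trR (g : Matrix (Fin n) (Fin n) k) (p : Mat n k) : poly (trR g p) = rsub g (poly p) := by
  have : (Mat.toPoly n k).toAlgHom.comp (trR g) = (rsub g).comp (Mat.toPoly n k).toAlgHom := by
    refine Mat.algHom_ext fun i j => ?_
    simp only [trR, AlgHom.comp_apply, Bialgebra.comulAlgHom_apply, Mat.comul_X, map_sum,
      Algebra.TensorProduct.map_tmul, AlgHom.id_apply, Mat.aeval_X]
    show _ = rsub g (MvPolynomial.X (i, j))
    rw [rsub_X]
    refine Finset.sum_congr rfl fun l _ => ?_
    show poly (g l j • (Mat.X i l : Mat n k)) = _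
    rw [MvPolynomial.C_mul']
    exact map_smul (Mat.toPoly n k) (g l j) (Mat.X i l)
  exact AlgHom.congr_fun this p

lemma aeval_sl (l : MvPolynomial (Fin n × Fin n) k →ₗ[k] k) (g : Matrix (Fin n) (Fin n) k) (p : Mat n k) :
    Mat.aeval n k g (sl (onMat l) p) = l (rsub g (poly p)) := by
  rw [← poly_trR, ← onMat_apply]
  simp only [sl, trR, LinearMap.comp_apply, AlgHom.comp_apply, Bialgebra.comulAlgHom_apply,
    LinearEquiv.coe_coe, AlgEquiv.toAlgHom_eq_coe, AlgHom.coe_coe]
  generalize CoalgebraStruct.comul (R := k) p = z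
  induction z with
  | zero => simp
  | tmul a b => simp [mul_comm]
  | add a b ha hb => simp only [map_add, ha, hb]

variable [CharZero k]

theorem sl_Ln (q : ℕ) (p : Mat n k) : sl (onMat (Ln q)) p = Ln q (poly p) • Mat.det n k ^ q := by
  haveI : Infinite k := Infinite.of_injective (fun m : ℕ => (m : k)) Nat.cast_injective
  apply (Mat.toPoly n k).injective
  refine MvPolynomial.eq_of_eval_eq_on_gl fun g => ?_
  rw [← aeval_eq_eval, ← aeval_eq_eval, aeval_sl, Ln_rsub, map_smul, map_pow, aeval_eq_eval, poly_det, eval_D,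
    smul_eq_mul, mul_comm]

theorem sl_Hs_monomial (β : Fin n × Fin n →₀ ℕ) :
    sl (onMat Hs) ((Mat.toPoly n k).symm (MvPolynomial.monomial β 1)) =
      Hs (MvPolynomial.monomial β (1 : k)) • Mat.det n k ^ (β.degree / n) := by
  haveI : Infinite k := Infinite.of_injective (fun m : ℕ => (m : k)) Nat.cast_injective
  have h := sl_Ln (β.degree / n) ((Mat.toPoly n k).symm (MvPolynomial.monomial β (1 : k)))
  rw [show poly ((Mat.toPoly n k).symm (MvPolynomial.monomial β (1 : k))) = MvPolynomial.monomial β 1 from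
    AlgEquiv.apply_symm_apply _ _, ← Hs_monomial] at h
  rw [← h]
  apply (Mat.toPoly n k).injective
  refine MvPolynomial.funext fun s => ?_
  have e : s = fun ij : Fin n × Fin n => (Matrix.of fun i j => s (i, j)) ij.1 ij.2 := rfl
  rw [e, ← aeval_eq_eval, ← aeval_eq_eval, aeval_sl, aeval_sl,
    show poly ((Mat.toPoly n k).symm (MvPolynomial.monomial β (1 : k))) = MvPolynomial.monomial β 1 from
      AlgEquiv.apply_symm_apply _ _,
    Hs_of_isHomogeneous (f := rsub _ (MvPolynomial.monomial β (1 : k))) (isHomogeneous_sub _ (MvPolynomial.isHomogeneous_monomial 1 rfl))]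

omit [CharZero k] in
lemma toGLn_det : Mat.toGLn n k (Mat.det n k) = (GLn.det : GLn n k) := by
  show (Mat.toGLn n k : Mat n k →ₐ[k] GLn n k) (Mat.genMat n k).det = _
  rw [AlgHom.map_det, GLn.det_eq]
  congr 1
  ext i j
  exact Mat.toGLn_X i j

omit [CharZero k] in
lemma Dinv_pow_mul_det_pow (m : ℕ) : (GLn.Dinv : GLn n k) ^ m * GLn.det ^ m = 1 := by
  rw [← mul_pow, GLn.Dinv_mul_det, one_pow]

omit [CharZero k] in
/-- Every element is a fraction `p / det ^ m`. -/
lemma exists_rep (a : GLn n k) : ∃ (p : Mat n k) (m : ℕ), a = Mat.toGLn n k p * GLn.Dinv ^ m := by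
  obtain ⟨b, rfl⟩ := Ideal.Quotient.mkₐ_surjective k (GLb.relIdeal n k) a
  change ∃ (p : Mat n k) (m : ℕ), GLn.mk n k b = _
  have H : ∀ b : MvPolynomial (GLPoly.Idx n) k,
      ∃ (p : Mat n k) (m : ℕ), GLn.mk n k b = Mat.toGLn n k p * GLn.Dinv ^ m := by
    intro b
    induction b using MvPolynomial.induction_on with
    | C c =>
      refine ⟨algebraMap k _ c, 0, ?_⟩
      rw [pow_zero, mul_one]
      exact ((GLn.mk n k).commutes c).trans ((Mat.toGLn n k : Mat n k →ₐ[k] GLn n k).commutes c).symm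
    | add x y hx hy =>
      obtain ⟨p, m, hp⟩ := hx
      obtain ⟨q, r, hq⟩ := hy
      refine ⟨p * Mat.det n k ^ r + q * Mat.det n k ^ m, m + r, ?_⟩
      rw [show GLn.mk n k (x + y : MvPolynomial (GLPoly.Idx n) k) = GLn.mk n k x + GLn.mk n k y from map_add _ _ _,
        hp, hq, map_add, map_mul, map_mul, map_pow, map_pow, toGLn_det, pow_add]
      linear_combination -(Mat.toGLn n k p * GLn.Dinv ^ m) * Dinv_pow_mul_det_pow (n := n) (k := k) r -
        (Mat.toGLn n k q * GLn.Dinv ^ r) * Dinv_pow_mul_det_pow (n := n) (k := k) m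
    | mul_X x i hx =>
      obtain ⟨p, m, hp⟩ := hx
      rcases i with ⟨i, j⟩ | _
      · refine ⟨p * Mat.X i j, m, ?_⟩
        rw [map_mul (Mat.toGLn n k), Mat.toGLn_X,
          show GLn.mk n k (x * MvPolynomial.X (Sum.inl (i, j)) : MvPolynomial (GLPoly.Idx n) k) =
            GLn.mk n k x * GLn.X i j from map_mul _ _ _, hp]
        ring
      · refine ⟨p, m + 1, ?_⟩
        rw [show GLn.mk n k (x * MvPolynomial.X (Sum.inr ()) : MvPolynomial (GLPoly.Idx n) k) =
            GLn.mk n k x * GLn.Dinv from map_mul _ _ _, hp, pow_succ, mul_assoc]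
  exact H b

lemma toGLn_injective : Function.Injective (Mat.toGLn n k : Mat n k → GLn n k) := by
  haveI : Infinite k := Infinite.of_injective (fun m : ℕ => (m : k)) Nat.cast_injective
  intro p q h
  apply (Mat.toPoly n k).injective
  refine MvPolynomial.eq_of_eval_eq_on_gl fun g => ?_
  have hg : (g : Matrix (Fin n) (Fin n) k).det ≠ 0 := ((Matrix.isUnit_iff_isUnit_det _).1 g.isUnit).ne_zero
  let x := GLn.pt n k (g : Matrix (Fin n) (Fin n) k) _ (mul_inv_cancel₀ hg)
  have hx : x.comp (Mat.toGLn n k : Mat n k →ₐ[k] GLn n k) = Mat.aeval n k (g : Matrix (Fin n) (Fin n) k) :=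
    Mat.algHom_ext fun i j => by simp [x]
  rw [← aeval_eq_eval, ← aeval_eq_eval, ← hx]
  exact congrArg x h

theorem rep_unique {p q : Mat n k} {m r : ℕ}
    (h : Mat.toGLn n k p * GLn.Dinv ^ m = Mat.toGLn n k q * GLn.Dinv ^ r) :
    p * Mat.det n k ^ r = q * Mat.det n k ^ m := by
  apply toGLn_injective
  rw [map_mul, map_mul, map_pow, map_pow, toGLn_det]
  linear_combination (GLn.det ^ m * GLn.det ^ r) * h - (Mat.toGLn n k p * GLn.det ^ r) * Dinv_pow_mul_det_pow (n := n) (k := k) m +
    (Mat.toGLn n k q * GLn.det ^ m) * Dinv_pow_mul_det_pow (n := n) (k := k) r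

theorem Ln_rep {p q : Mat n k} {m r : ℕ}
    (h : Mat.toGLn n k p * GLn.Dinv ^ m = Mat.toGLn n k q * GLn.Dinv ^ r) :
    Ln m (poly p) = Ln r (poly q) := by
  have e := congrArg poly (rep_unique h)
  simp only [poly, map_mul, map_pow] at e
  rw [← Ln_mul_D_pow m r (poly p), ← Ln_mul_D_pow r m (poly q), add_comm r m]
  exact congrArg (Ln (m + r)) e

/-- The integral of the general linear group. -/
theorem exists_integral_GLn : ∃ l : GLn n k →ₗ[k] k, l 1 = 1 ∧
    ∀ y, TensorProduct.lid k (GLn n k) (l.rTensor (GLn n k) (CoalgebraStruct.comul (R := k) y)) =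
      algebraMap k (GLn n k) (l y) := by
  choose P M hPM using fun a : GLn n k => exists_rep a
  have key : ∀ (a : GLn n k) (p : Mat n k) (m : ℕ), a = Mat.toGLn n k p * GLn.Dinv ^ m →
      Ln (M a) (poly (P a)) = Ln m (poly p) := fun a p m h => Ln_rep ((hPM a).symm.trans h)
  let l : GLn n k →ₗ[k] k :=
    { toFun := fun a => Ln (M a) (poly (P a))
      map_add' := fun a b => by
        rw [key (a + b) (P a * Mat.det n k ^ M b + P b * Mat.det n k ^ M a) (M a + M b) (by
          rw [map_add, map_mul, map_mul, map_pow, map_pow, toGLn_det, pow_add]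
          linear_combination hPM a + hPM b -
            (Mat.toGLn n k (P a) * GLn.Dinv ^ M a) * Dinv_pow_mul_det_pow (n := n) (k := k) (M b) -
            (Mat.toGLn n k (P b) * GLn.Dinv ^ M b) * Dinv_pow_mul_det_pow (n := n) (k := k) (M a))]
        simp only [poly, map_add, map_mul, map_pow]
        rw [show Mat.toPoly n k (Mat.det n k) = D n k from rfl, Ln_mul_D_pow, add_comm (M a) (M b), Ln_mul_D_pow]
      map_smul' := fun c a => by
        rw [key (c • a) (c • P a) (M a) (by rw [map_smul, smul_mul_assoc, ← hPM a])]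
        simp [poly] }
  have hl : ∀ (p : Mat n k) (m : ℕ), l (Mat.toGLn n k p * GLn.Dinv ^ m) = Ln m (poly p) := fun p m => key _ p m rfl
  refine ⟨l, ?_, fun y => ?_⟩
  · rw [show (1 : GLn n k) = Mat.toGLn n k 1 * GLn.Dinv ^ 0 by simp, hl]
    simpa [poly] using Ln_D_pow (n := n) (k := k) 0
  · obtain ⟨p, m, rfl⟩ := exists_rep y
    have hc : ∀ a b : GLn n k, CoalgebraStruct.comul (R := k) (a * b) =
        CoalgebraStruct.comul (R := k) a * CoalgebraStruct.comul (R := k) b :=
      fun a b => map_mul (Bialgebra.comulAlgHom k (GLn n k)) a b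
    have hD : CoalgebraStruct.comul (R := k) ((GLn.Dinv : GLn n k) ^ m) =
        ((GLn.Dinv : GLn n k) ^ m) ⊗ₜ[k] ((GLn.Dinv : GLn n k) ^ m) := by
      rw [← Bialgebra.comulAlgHom_apply, map_pow, Bialgebra.comulAlgHom_apply, GLn.comul_Dinv,
        Algebra.TensorProduct.tmul_pow]
    rw [hl, hc, hD, ← CoalgHomClass.map_comp_comul_apply (Mat.toGLn n k) p]
    have e : ∀ z : Mat n k ⊗[k] Mat n k, TensorProduct.lid k (GLn n k) (l.rTensor (GLn n k)
        (TensorProduct.map (Mat.toGLn n k : Mat n k →ₗ[k] GLn n k) (Mat.toGLn n k : Mat n k →ₗ[k] GLn n k) z *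
          ((GLn.Dinv : GLn n k) ^ m) ⊗ₜ[k] ((GLn.Dinv : GLn n k) ^ m))) =
        Mat.toGLn n k (TensorProduct.lid k (Mat n k) ((onMat (Ln m)).rTensor (Mat n k) z)) * GLn.Dinv ^ m := by
      intro z
      induction z with
      | zero => simp
      | add a b ha hb => simp only [map_add, add_mul, ha, hb]
      | tmul a b =>
        rw [TensorProduct.map_tmul, Algebra.TensorProduct.tmul_mul_tmul, LinearMap.rTensor_tmul,
          TensorProduct.lid_tmul, LinearMap.rTensor_tmul, TensorProduct.lid_tmul, map_smul, smul_mul_assoc]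
        exact congrArg (· • _) (hl a m)
    rw [e]
    change Mat.toGLn n k (sl (onMat (Ln m)) p) * _ = _
    rw [sl_Ln, map_smul, map_pow, toGLn_det, smul_mul_assoc, mul_comm, Dinv_pow_mul_det_pow,
      Algebra.algebraMap_eq_smul_one]

theorem isLinearlyReductive_GLn : IsLinearlyReductive k (GLn n k) := by
  obtain ⟨l, hl1, hl⟩ := exists_integral_GLn (n := n) (k := k)
  exact CoalgH23.isLinearlyReductive_of_integral hl1 hl

/-- The restriction of functions to the special linear group. -/
def toSLn (n : ℕ) (k : Type u) [Field k] : Mat n k →ₐ[k] SLn n k :=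
  (SLn.mk n k).comp (Mat.toGLn n k : Mat n k →ₐ[k] GLn n k)

omit [CharZero k] in
lemma mk_Dinv : SLn.mk n k (GLn.Dinv : GLn n k) = 1 := by
  have h := congrArg (SLn.mk n k) (GLn.Dinv_mul_det (n := n) (k := k))
  rwa [map_mul, SLn.det_eq_one, mul_one, map_one] at h

omit [CharZero k] in
lemma toSLn_surjective : Function.Surjective (toSLn n k) := by
  intro y
  obtain ⟨a, rfl⟩ := Ideal.Quotient.mkₐ_surjective k (GLn.slIdeal n k) y
  obtain ⟨p, m, rfl⟩ := exists_rep a
  refine ⟨p, ?_⟩
  show SLn.mk n k (Mat.toGLn n k p) = SLn.mk n k _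
  rw [map_mul, map_pow, mk_Dinv, one_pow, mul_one]

lemma Hs_eq_zero_of_toSLn (hn : 0 < n) {p : Mat n k} (h : toSLn n k p = 0) : Hs (poly p) = 0 := by
  have hm : Mat.toGLn n k p ∈ GLn.slIdeal n k := Ideal.Quotient.eq_zero_iff_mem.1 h
  obtain ⟨a, ha⟩ := Ideal.mem_span_singleton'.1 hm
  obtain ⟨q, m, rfl⟩ := exists_rep a
  have e : p * Mat.det n k ^ m = q * Mat.det n k - q := by
    apply toGLn_injective
    rw [map_mul, map_sub, map_mul, map_pow, toGLn_det]
    rw [GLn.slRel] at ha
    linear_combination -(GLn.det ^ m : GLn n k) * ha +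
      (Mat.toGLn n k q * ((GLn.det : GLn n k) - 1)) * Dinv_pow_mul_det_pow (n := n) (k := k) m
  have hpow : ∀ (j : ℕ) (f : MvPolynomial (Fin n × Fin n) k), Hs (f * D n k ^ j) = Hs f := by
    intro j
    induction j with
    | zero => simp
    | succ j ih => intro f; rw [pow_succ, ← mul_assoc, Hs_mul_D hn, ih]
  have e2 := congrArg (fun x => Hs (poly x)) e
  simp only [poly, map_mul, map_pow, map_sub] at e2
  rw [show Mat.toPoly n k (Mat.det n k) = D n k from rfl, hpow, Hs_mul_D hn, sub_self] at e2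
  exact e2

theorem exists_integral_SLn : ∃ l : SLn n k →ₗ[k] k, l 1 = 1 ∧
    ∀ y, TensorProduct.lid k (SLn n k) (l.rTensor (SLn n k) (CoalgebraStruct.comul (R := k) y)) =
      algebraMap k (SLn n k) (l y) := by
  rcases Nat.eq_zero_or_pos n with rfl | hn
  · have hall : ∀ y : SLn 0 k, y = algebraMap k (SLn 0 k) (Coalgebra.counit (R := k) y) := by
      intro y
      have : AlgHom.id k (SLn 0 k) = (Algebra.ofId k (SLn 0 k)).comp (Bialgebra.counitAlgHom k (SLn 0 k)) :=
        SLn.algHom_ext (fun i => i.elim0) (by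
          simp only [AlgHom.comp_apply, mk_Dinv, map_one])
      exact AlgHom.congr_fun this y
    refine ⟨Coalgebra.counit, Bialgebra.counit_one, fun y => ?_⟩
    rw [Coalgebra.rTensor_counit_comul, TensorProduct.lid_tmul, one_smul]
    exact hall y
  obtain ⟨s, hs⟩ := (toSLn n k).toLinearMap.exists_rightInverse_of_surjective
    (LinearMap.range_eq_top.2 toSLn_surjective)
  let l : SLn n k →ₗ[k] k := onMat Hs ∘ₗ s
  have hl : ∀ p : Mat n k, l (toSLn n k p) = Hs (poly p) := by
    intro p
    have h0 : toSLn n k (s (toSLn n k p) - p) = 0 := by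
      rw [map_sub, sub_eq_zero]
      exact LinearMap.congr_fun hs _
    have := Hs_eq_zero_of_toSLn hn h0
    simp only [poly, map_sub, sub_eq_zero] at this
    exact this
  refine ⟨l, ?_, fun y => ?_⟩
  · rw [show (1 : SLn n k) = toSLn n k 1 from (map_one _).symm, hl]
    simp only [poly, map_one]
    rw [Hs_of_isHomogeneous (MvPolynomial.isHomogeneous_one _ _), Nat.zero_div]
    simpa using Ln_D_pow (n := n) (k := k) 0
  · obtain ⟨p, rfl⟩ := toSLn_surjective y
    rw [hl]
    suffices h : ∀ p : Mat n k, toSLn n k (sl (onMat Hs) p) = algebraMap k (SLn n k) (Hs (poly p)) by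
      rw [← h p]
      have hc : CoalgebraStruct.comul (R := k) (toSLn n k p) =
          TensorProduct.map (toSLn n k).toLinearMap (toSLn n k).toLinearMap (CoalgebraStruct.comul (R := k) p) :=
        (CoalgHomClass.map_comp_comul_apply ((SLn.mkHom n k).comp (Mat.toGLn n k)) p).symm
      rw [hc, sl, LinearMap.comp_apply, LinearMap.comp_apply]
      generalize CoalgebraStruct.comul (R := k) p = z
      induction z with
      | zero => simp
      | add a b ha hb => simp only [map_add, ha, hb]
      | tmul a b =>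
        rw [TensorProduct.map_tmul, LinearMap.rTensor_tmul, LinearMap.rTensor_tmul, TensorProduct.lid_tmul,
          LinearEquiv.coe_coe, TensorProduct.lid_tmul, map_smul]
        exact congrArg (· • _) (hl a)
    intro p
    obtain ⟨f, rfl⟩ := (Mat.toPoly n k).symm.surjective p
    rw [show poly ((Mat.toPoly n k).symm f) = f from AlgEquiv.apply_symm_apply _ _]
    induction f using MvPolynomial.induction_on' with
    | add a b ha hb => simp only [map_add, ha, hb]
    | monomial β c =>
      rw [show MvPolynomial.monomial β c = c • MvPolynomial.monomial β (1 : k) by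
          rw [MvPolynomial.smul_monomial, smul_eq_mul, mul_one], map_smul, map_smul, map_smul, map_smul,
        sl_Hs_monomial, map_smul, map_pow, show toSLn n k (Mat.det n k) = 1 by
          show SLn.mk n k (Mat.toGLn n k (Mat.det n k)) = 1
          rw [toGLn_det, SLn.det_eq_one], one_pow, smul_eq_mul, Algebra.algebraMap_eq_smul_one, smul_smul]

theorem isLinearlyReductive_SLn : IsLinearlyReductive k (SLn n k) := by
  obtain ⟨l, hl1, hl⟩ := exists_integral_SLn (n := n) (k := k)
  exact CoalgH23.isLinearlyReductive_of_integral hl1 hl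

end Groth.Agent.GLRed28
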